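import Groth.Agent.FlatLoc6.GeomProp
import Groth.Agent.S1182
import Groth.Agent.Hensel.HenselizationNormal

/-!
# Geometric normality is detected by finite purely inseparable extensions

No Noetherian hypotheses: normality passes along smooth maps, descends along faithfully flat maps
and is inherited by directed unions with flat transition maps.
-/

set_option autoImplicit false
set_option backward.isDefEq.respectTransparency false
set_option backward.isDefEq.respectTransparency.types false
universe u

namespace Groth.Agent.GeomNormCrit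

open TensorProduct

theorem isNormalRing_of_faithfullyFlat (A B : Type u) [CommRing A] [CommRing B] [Algebra A B]
    [Module.FaithfullyFlat A B] (hB : EGA4.IsNormalRing B) : EGA4.IsNormalRing A := by
  intro p _
  obtain ⟨Q, hQ⟩ := PrimeSpectrum.comap_surjective_of_faithfullyFlat (A := A) (B := B) ⟨p, ‹_›⟩
  have hp : p = Q.asIdeal.comap (algebraMap A B) := (congrArg PrimeSpectrum.asIdeal hQ).symm
  let f := Localization.localRingHom p Q.asIdeal (algebraMap A B) hp
  letI := f.toAlgebra
  haveI : Module.Flat (Localization.AtPrime p) (Localization.AtPrime Q.asIdeal) :=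
    RingHom.flat_algebraMap_iff.1
      (RingHom.Flat.localRingHom (RingHom.flat_algebraMap_iff.2 inferInstance) Q.asIdeal p hp)
  haveI : IsLocalHom (algebraMap (Localization.AtPrime p) (Localization.AtPrime Q.asIdeal)) :=
    Localization.isLocalHom_localRingHom p Q.asIdeal (algebraMap A B) hp
  haveI := Module.FaithfullyFlat.of_flat_of_isLocalHom (A := Localization.AtPrime p)
    (B := Localization.AtPrime Q.asIdeal)
  obtain ⟨_, _⟩ := hB Q.asIdeal
  exact Groth.Agent.Hensel.isIntegrallyClosed_of_faithfullyFlat (Localization.AtPrime p)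
    (Localization.AtPrime Q.asIdeal)

theorem permanence : FlatLoc6.Permanence.{u} (fun R _ => EGA4.IsNormalRing R) where
  equiv e h := FlatLoc6.isNormalRing_of_ringEquiv e h
  smooth A B _ _ _ _ h := (S1182.result A B).1 h
  loc M C _ _ _ h := FlatLoc6.isNormalRing_of_isLocalization M C h
  desc A B _ _ _ _ h := isNormalRing_of_faithfullyFlat A B h

/-- A ring covered by injective images of integrally closed domains, in the sense that any finite
set lies in one of them, is an integrally closed domain. -/
theorem normal_of_directed (R : Type u) [CommRing R] [Nontrivial R]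
    (h : ∀ s : Finset R, ∃ (D : Type u) (_ : CommRing D) (g : D →+* R), IsDomain D ∧
      IsIntegrallyClosed D ∧ Function.Injective g ∧ (s : Set R) ⊆ Set.range g) :
    IsDomain R ∧ IsIntegrallyClosed R := by
  classical
  haveI : NoZeroDivisors R := by
    refine ⟨fun {x y} hxy => ?_⟩
    obtain ⟨D, _, g, _, _, hg, hs⟩ := h {x, y}
    obtain ⟨x', rfl⟩ := hs (show x ∈ _ by simp)
    obtain ⟨y', rfl⟩ := hs (show y ∈ _ by simp)
    rcases mul_eq_zero.1 (hg ((map_mul g x' y').trans (hxy.trans (map_zero g).symm))) with h | h
    · exact Or.inl (by rw [h, map_zero])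
    · exact Or.inr (by rw [h, map_zero])
  haveI : IsDomain R := NoZeroDivisors.to_isDomain R
  refine ⟨inferInstance, (isIntegrallyClosed_iff (FractionRing R)).2 fun {x} hx => ?_⟩
  obtain ⟨p, hp, hpx⟩ := hx
  obtain ⟨a, b, hb, rfl⟩ := IsFractionRing.div_surjective (A := R) x
  obtain ⟨D, _, g, _, _, hg, hs⟩ := h ({a, b} ∪ p.coeffs)
  obtain ⟨a', rfl⟩ := hs (show a ∈ _ by simp)
  obtain ⟨b', rfl⟩ := hs (show b ∈ _ by simp)
  have hb' : g b' ≠ 0 := nonZeroDivisors.ne_zero hb
  obtain ⟨q, hq, -, hqm⟩ := Polynomial.lifts_and_degree_eq_and_monic (p := p) (f := g) (by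
    rw [Polynomial.lifts_iff_coeff_lifts]
    intro n
    by_cases hn : p.coeff n = 0
    · exact ⟨0, by rw [map_zero, hn]⟩
    · exact hs (by simp [Polynomial.coeff_mem_coeffs hn])) hp
  subst hq
  let ι : R →+* FractionRing R := algebraMap R _
  have hι : Function.Injective ι := IsFractionRing.injective R _
  have hbK : ι (g b') ≠ 0 := fun e => hb' (hι (e.trans (map_zero _).symm))
  have h0 : (q.scaleRoots b').eval a' = 0 := by
    apply hg
    apply hι
    rw [← Polynomial.eval₂_hom, Polynomial.hom_eval₂, map_zero, map_zero,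
      show (ι (g a')) = (ι.comp g) b' * (ι (g a') / ι (g b')) from (mul_div_cancel₀ _ hbK).symm,
      Polynomial.scaleRoots_eval₂_mul, ← Polynomial.eval₂_map, hpx, mul_zero]
  let K := FractionRing D
  have hb'' : algebraMap D K b' ≠ 0 := fun e =>
    hb' (by rw [IsFractionRing.injective D K (e.trans (map_zero _).symm), map_zero])
  have hint : IsIntegral D (algebraMap D K a' / algebraMap D K b') := by
    refine ⟨q, hqm, ?_⟩
    have h2 := congrArg (algebraMap D K) h0
    rw [← Polynomial.eval₂_at_apply, map_zero,
      show algebraMap D K a' = algebraMap D K b' * (algebraMap D K a' / algebraMap D K b') from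
        (mul_div_cancel₀ _ hb'').symm, Polynomial.scaleRoots_eval₂_mul] at h2
    exact (mul_eq_zero.1 h2).resolve_left (pow_ne_zero _ hb'')
  obtain ⟨d, hd⟩ := (isIntegrallyClosed_iff K).1 inferInstance hint
  refine ⟨g d, ?_⟩
  have h3 : a' = b' * d := IsFractionRing.injective D K (by
    rw [map_mul, hd, mul_div_cancel₀ _ hb''])
  rw [eq_div_iff hbK, h3, map_mul, map_mul, mul_comm]

/-- A ring in which any finite set lies in a flat normal subring is normal. -/
theorem isNormalRing_of_directed (T : Type u) [CommRing T]
    (h : ∀ s : Finset T, ∃ (T₀ : Type u) (_ : CommRing T₀) (f : T₀ →+* T),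
      f.Flat ∧ EGA4.IsNormalRing T₀ ∧ (s : Set T) ⊆ Set.range f) : EGA4.IsNormalRing T := by
  classical
  intro Q _
  refine normal_of_directed _ fun s => ?_
  choose a w hw using fun x : Localization.AtPrime Q => IsLocalization.exists_mk'_eq Q.primeCompl x
  obtain ⟨T₀, _, f, hflat, hT₀, hs⟩ := h (s.image a ∪ s.image fun x => (w x : T))
  obtain ⟨hd, hc⟩ := hT₀ (Q.comap f)
  let g := Localization.localRingHom (Q.comap f) Q f rfl
  refine ⟨_, inferInstance, g, hd, hc, ?_, fun x hx => ?_⟩
  · letI := g.toAlgebra
    haveI : Module.Flat (Localization.AtPrime (Q.comap f)) (Localization.AtPrime Q) :=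
      RingHom.flat_algebraMap_iff.1 (RingHom.Flat.localRingHom hflat Q (Q.comap f) rfl)
    haveI : IsLocalHom (algebraMap (Localization.AtPrime (Q.comap f)) (Localization.AtPrime Q)) :=
      Localization.isLocalHom_localRingHom (Q.comap f) Q f rfl
    haveI := Module.FaithfullyFlat.of_flat_of_isLocalHom (A := Localization.AtPrime (Q.comap f))
      (B := Localization.AtPrime Q)
    exact FaithfulSMul.algebraMap_injective (Localization.AtPrime (Q.comap f)) (Localization.AtPrime Q)
  · obtain ⟨a', ha'⟩ := hs (Finset.mem_union_left _ (Finset.mem_image_of_mem a hx))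
    obtain ⟨w', hw'⟩ := hs (Finset.mem_union_right _ (Finset.mem_image_of_mem _ hx))
    refine ⟨IsLocalization.mk' _ a' (⟨w', fun e : f w' ∈ Q => (w x).2 (hw' ▸ e)⟩ :
      (Q.comap f).primeCompl), ?_⟩
    refine (Localization.localRingHom_mk' (Q.comap f) Q f rfl a' _).trans ?_
    conv_rhs => rw [← hw x]
    exact IsLocalization.mk'_eq_of_eq (by simp only [ha', hw'])

/-- Stability under finite purely inseparable extensions gives normality under every extension. -/
theorem isNormalRing_tensor_of_insep (k S : Type u) [Field k] [CommRing S] [Algebra k S]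
    (h : ∀ (k' : Type u) [Field k'] [Algebra k k'], Module.Finite k k' → IsPurelyInseparable k k' →
      EGA4.IsNormalRing (k' ⊗[k] S))
    (K : Type u) [Field K] [Algebra k K] : EGA4.IsNormalRing (K ⊗[k] S) := by
  classical
  refine isNormalRing_of_directed _ fun s => ?_
  choose t ht using fun z : K ⊗[k] S => TensorProduct.exists_finset z
  let c : Finset K := s.biUnion fun z => (t z).image Prod.fst
  let E : IntermediateField k K := IntermediateField.adjoin k (c : Set K)
  haveI : Algebra.EssFiniteType k E :=
    IntermediateField.essFiniteType_iff.2 (IntermediateField.fg_adjoin_finset c)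
  let φ : E ⊗[k] S →ₐ[E] K ⊗[k] S := Algebra.TensorProduct.map (Algebra.ofId E K) (AlgHom.id k S)
  let f := φ.toRingHom
  refine ⟨E ⊗[k] S, inferInstance, f, ?_, permanence.of_insep k S h E, fun z hz => ?_⟩
  · exact RingHom.Flat.tensorProductMap (f := Algebra.ofId E K) (g := AlgHom.id k S)
      (RingHom.Flat.of_isField (Field.toIsField E) _) (RingHom.Flat.id S)
  · have : ∀ ls ∈ t z, ls.1 ⊗ₜ[k] ls.2 ∈ φ.range := fun ls hls => ?_
    · rw [ht z]
      exact sum_mem this
    have hl : ls.1 ∈ E := IntermediateField.subset_adjoin k _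
      (Finset.mem_biUnion.2 ⟨z, hz, Finset.mem_image_of_mem _ hls⟩)
    exact ⟨(⟨ls.1, hl⟩ : E) ⊗ₜ[k] ls.2, by simp [φ, Algebra.ofId_apply]⟩

end Groth.Agent.GeomNormCrit
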