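import Groth.Agent.GeomNormCrit.Basic
import Groth.Agent.GeomField.Chart
import Groth.Agent.IntBC.Normal
import Groth.Agent.EtNorm.Dedekind

/-!
# Geometric normality of schemes over a field
-/

set_option autoImplicit false
set_option linter.style.haveILetI false
set_option backward.isDefEq.respectTransparency false
set_option backward.isDefEq.respectTransparency.types false

universe u

open CategoryTheory CategoryTheory.Limits AlgebraicGeometry TensorProduct

namespace Groth.Agent.GeomNormCrit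

/-- A normal domain is a normal ring. -/
theorem isNormalRing_of_domain (A : Type u) [CommRing A] [IsDomain A] [IsIntegrallyClosed A] :
    EGA4.IsNormalRing A := fun p _ =>
  ⟨IsLocalization.isDomain_localization p.primeCompl_le_nonZeroDivisors,
    isIntegrallyClosed_of_isLocalization _ p.primeCompl p.primeCompl_le_nonZeroDivisors⟩

/-- Normality may be checked at maximal ideals. -/
theorem isNormalRing_of_maximal {R : Type u} [CommRing R]
    (h : ∀ m : Ideal R, ∀ [m.IsMaximal], IsDomain (Localization.AtPrime m) ∧ IsIntegrallyClosed (Localization.AtPrime m)) :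
    EGA4.IsNormalRing R := by
  refine IntBC.isNormalRing_of_cover fun Q hQ => ?_
  obtain ⟨m, hm, hQm⟩ := Ideal.exists_le_maximal Q hQ.ne_top
  haveI := hm
  obtain ⟨_, _⟩ := h m
  refine ⟨Localization.AtPrime m, inferInstance, inferInstance, m.primeCompl, inferInstance, ?_,
    isNormalRing_of_domain _⟩
  exact Set.disjoint_left.mpr fun z hz hzQ => hz (hQm hzQ)

variable {k : Type u} [Field k] {X : Scheme.{u}} [X.Over (Spec (CommRingCat.of k))]

attribute [local instance] Curv2.stalkAlgebra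

open Groth.Agent.GeomField in
/-- Normality of the stalk of the base change at a point of a chart. -/
theorem stalk_bcEmb_iff (c : Chart k X) (K : Type u) [Field K] [Algebra k K]
    (Q : Spec (CommRingCat.of (c.R ⊗[k] K))) :
    (IsDomain ((Curv2.bc k X K).presheaf.stalk (c.bcEmb K Q)) ∧
        IsIntegrallyClosed ((Curv2.bc k X K).presheaf.stalk (c.bcEmb K Q))) ↔
      (IsDomain (Localization.AtPrime (PrimeSpectrum.asIdeal (R := c.R ⊗[k] K) Q)) ∧
        IsIntegrallyClosed (Localization.AtPrime (PrimeSpectrum.asIdeal (R := c.R ⊗[k] K) Q))) := by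
  let e₁ : (Spec.structureSheaf (c.R ⊗[k] K)).presheaf.stalk Q ≃ₐ[c.R ⊗[k] K]
      Localization.AtPrime (PrimeSpectrum.asIdeal (R := c.R ⊗[k] K) Q) :=
    IsLocalization.algEquiv (PrimeSpectrum.asIdeal (R := c.R ⊗[k] K) Q).primeCompl _ _
  let e : (Curv2.bc k X K).presheaf.stalk (c.bcEmb K Q) ≃+*
      Localization.AtPrime (PrimeSpectrum.asIdeal (R := c.R ⊗[k] K) Q) :=
    (asIso ((c.bcEmb K).stalkMap Q)).commRingCatIsoToRingEquiv.trans e₁.toRingEquiv
  constructor
  · rintro ⟨h1, h2⟩
    haveI := h1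
    haveI := h2
    exact ⟨e.symm.toMulEquiv.isDomain, IsIntegrallyClosed.of_equiv e⟩
  · rintro ⟨h1, h2⟩
    haveI := h1
    haveI := h2
    exact ⟨e.toMulEquiv.isDomain, IsIntegrallyClosed.of_equiv e.symm⟩

/-- All base changes of a scheme with normal finite purely inseparable base changes are normal. -/
theorem isNormalScheme_bc
    (h : ∀ (k' : Type u) [Field k'] [Algebra k k'] [FiniteDimensional k k'] [IsPurelyInseparable k k'],
      Pi1.IsNormalScheme (Curv2.bc k X k')) (K : Type u) [Field K] [Algebra k K] :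
    Pi1.IsNormalScheme (Curv2.bc k X K) := by
  intro z
  obtain ⟨c, P, hP⟩ := GeomField.exists_chart (k := k) (Curv2.bcFst k X K z)
  obtain ⟨Q, rfl⟩ := c.exists_bcEmb_eq K P z hP.symm
  refine (stalk_bcEmb_iff c K Q).mpr ?_
  have hR : ∀ (k' : Type u) [Field k'] [Algebra k k'], Module.Finite k k' → IsPurelyInseparable k k' →
      EGA4.IsNormalRing (k' ⊗[k] c.R) := fun k' _ _ hf hp => by
    haveI := hf
    haveI := hp
    refine FlatLoc6.isNormalRing_of_ringEquiv (R := c.R ⊗[k] k')
      (Algebra.TensorProduct.comm k c.R k').toRingEquiv fun p hp' => ?_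
    exact (stalk_bcEmb_iff c k' (⟨p, hp'⟩ : PrimeSpectrum (c.R ⊗[k] k'))).mp (h k' _)
  exact FlatLoc6.isNormalRing_of_ringEquiv (R := K ⊗[k] c.R) (Algebra.TensorProduct.comm k K c.R).toRingEquiv
    (isNormalRing_tensor_of_insep k c.R hR K) _

/-- Localizing the first factor of `R ⊗ K`: the stalk algebra. -/
theorem isLocalization_tensor {R O K : Type u} [CommRing R] [CommRing O] [CommRing K] [Algebra k R] [Algebra k O]
    [Algebra k K] [Algebra R O] [IsScalarTower k R O] (P : Ideal R) [P.IsPrime] [IsLocalization.AtPrime O P] :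
    letI : Algebra (R ⊗[k] K) (O ⊗[k] K) :=
      (Algebra.TensorProduct.map (IsScalarTower.toAlgHom k R O) (AlgHom.id k K)).toAlgebra
    IsLocalization (P.primeCompl.map (Algebra.TensorProduct.includeLeft (R := k) (S := k) (A := R) (B := K)))
      (O ⊗[k] K) := by
  letI : Algebra (R ⊗[k] K) (O ⊗[k] K) :=
    (Algebra.TensorProduct.map (IsScalarTower.toAlgHom k R O) (AlgHom.id k K)).toAlgebra
  letI : Algebra (K ⊗[k] R) (K ⊗[k] O) :=
    (Algebra.TensorProduct.map (AlgHom.id k K) (IsScalarTower.toAlgHom k R O)).toAlgebra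
  haveI : IsScalarTower K (K ⊗[k] R) (K ⊗[k] O) :=
    .of_algebraMap_eq <| by intro; simp [RingHom.algebraMap_toAlgebra]
  have h := IsLocalization.tensorProduct_tensorProduct_right k K P.primeCompl O
    (by ext; simp [RingHom.algebraMap_toAlgebra])
  let e₁ : K ⊗[k] R ≃ₐ[k] R ⊗[k] K := Algebra.TensorProduct.comm k K R
  let e₂ : K ⊗[k] O ≃ₐ[k] O ⊗[k] K := Algebra.TensorProduct.comm k K O
  have hcomm : ∀ x, e₂ (algebraMap (K ⊗[k] R) (K ⊗[k] O) x) = algebraMap (R ⊗[k] K) (O ⊗[k] K) (e₁ x) := fun x => by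
    induction x using TensorProduct.induction_on with
    | zero => simp
    | tmul a b => simp [e₁, e₂, RingHom.algebraMap_toAlgebra]
    | add a b ha hb => simp only [map_add, ha, hb]
  rw [isLocalization_iff]
  refine ⟨?_, fun z => ?_, fun {x y} hxy => ?_⟩
  · rintro ⟨_, r, hr, rfl⟩
    have := (IsLocalization.map_units (K ⊗[k] O) (⟨_, r, hr, rfl⟩ :
      P.primeCompl.map (Algebra.TensorProduct.includeRight (R := k) (A := K) (B := R)))).map e₂
    rw [hcomm] at this
    simpa [e₁] using this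
  · obtain ⟨⟨a, ⟨_, r, hr, rfl⟩⟩, ha⟩ := IsLocalization.surj
      (P.primeCompl.map (Algebra.TensorProduct.includeRight (R := k) (A := K) (B := R))) (e₂.symm z)
    refine ⟨⟨e₁ a, ⟨_, r, hr, rfl⟩⟩, ?_⟩
    have := congrArg e₂ ha
    rw [map_mul, hcomm, hcomm, e₂.apply_symm_apply] at this
    simpa [e₁] using this
  · rw [← e₁.apply_symm_apply x, ← e₁.apply_symm_apply y, ← hcomm, ← hcomm, e₂.injective.eq_iff] at hxy
    obtain ⟨⟨_, r, hr, rfl⟩, hc⟩ := IsLocalization.exists_of_eq
      (M := P.primeCompl.map (Algebra.TensorProduct.includeRight (R := k) (A := K) (B := R))) hxy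
    refine ⟨⟨_, r, hr, rfl⟩, ?_⟩
    have := congrArg e₁ hc
    rw [map_mul, map_mul, e₁.apply_symm_apply, e₁.apply_symm_apply] at this
    simpa [e₁] using this

open Groth.Agent.GeomField in
/-- The stalks of the base change over a point and the localizations of the tensor product with its local ring. -/
theorem tensor_stalk_iff (c : Chart k X) (P : Spec (CommRingCat.of c.R)) (K : Type u) [Field K] [Algebra k K]
    (Q' : Ideal (X.presheaf.stalk (c.emb P) ⊗[k] K)) [Q'.IsPrime] :
    ∃ z : Curv2.bc k X K,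
      ((IsDomain ((Curv2.bc k X K).presheaf.stalk z) ∧ IsIntegrallyClosed ((Curv2.bc k X K).presheaf.stalk z)) ↔
        (IsDomain (Localization.AtPrime Q') ∧ IsIntegrallyClosed (Localization.AtPrime Q'))) ∧
      (Q'.comap (algebraMap (X.presheaf.stalk (c.emb P)) _) = IsLocalRing.maximalIdeal _ →
        Curv2.bcFst k X K z = c.emb P) := by
  letI := c.stalkAlg P
  haveI := c.isScalarTower_stalk P
  haveI := c.isLocalization_stalk P
  let P' : Ideal c.R := PrimeSpectrum.asIdeal (R := c.R) P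
  haveI : P'.IsPrime := P.isPrime
  let O := X.presheaf.stalk (c.emb P)
  letI : Algebra (c.R ⊗[k] K) (O ⊗[k] K) :=
    (Algebra.TensorProduct.map (IsScalarTower.toAlgHom k c.R O) (AlgHom.id k K)).toAlgebra
  haveI := isLocalization_tensor (k := k) (R := c.R) (O := O) (K := K) P'
  let Q : Ideal (c.R ⊗[k] K) := Q'.comap (algebraMap (c.R ⊗[k] K) (O ⊗[k] K))
  haveI hQ : Q.IsPrime := Ideal.comap_isPrime _ _
  haveI : IsLocalization.AtPrime (Localization.AtPrime Q') Q :=
    IsLocalization.isLocalization_isLocalization_atPrime_isLocalization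
      (P'.primeCompl.map (Algebra.TensorProduct.includeLeft (R := k) (S := k) (A := c.R) (B := K)))
      (Localization.AtPrime Q') Q'
  let e : Localization.AtPrime Q' ≃+* Localization.AtPrime Q :=
    (IsLocalization.algEquiv Q.primeCompl (Localization.AtPrime Q') (Localization.AtPrime Q)).toRingEquiv
  refine ⟨c.bcEmb K (⟨Q, hQ⟩ : PrimeSpectrum (c.R ⊗[k] K)), (stalk_bcEmb_iff c K _).trans ⟨?_, ?_⟩, fun hmax => ?_⟩
  · rintro ⟨h1, h2⟩
    haveI := h1
    haveI := h2
    exact ⟨e.toMulEquiv.isDomain, IsIntegrallyClosed.of_equiv e.symm⟩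
  · rintro ⟨h1, h2⟩
    haveI := h1
    haveI := h2
    exact ⟨e.symm.toMulEquiv.isDomain, IsIntegrallyClosed.of_equiv e⟩
  · rw [Chart.bcEmb_fst_eq_iff]
    show Q.comap (algebraMap c.R (c.R ⊗[k] K)) = P'
    rw [Ideal.comap_comap, show (algebraMap (c.R ⊗[k] K) (O ⊗[k] K)).comp (algebraMap c.R (c.R ⊗[k] K)) =
      (algebraMap O (O ⊗[k] K)).comp (algebraMap c.R O) from RingHom.ext fun r => by
        simp [RingHom.algebraMap_toAlgebra, Algebra.TensorProduct.algebraMap_apply],
      ← Ideal.comap_comap, hmax]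
    exact IsLocalization.AtPrime.comap_maximalIdeal _ _

/-- Geometric normality at a point. -/
theorem geomNormalAt_iff (x : X) :
    ((∀ (k' : Type u) [Field k'] [Algebra k k'] (x' : ↥(Curv2.bc k X k')), Curv2.bcFst k X k' x' = x →
        IsDomain ↥((Curv2.bc k X k').presheaf.stalk x') ∧ IsIntegrallyClosed ↥((Curv2.bc k X k').presheaf.stalk x')) ↔
      (∀ (k' : Type u) [Field k'] [Algebra k k'] [FiniteDimensional k k'] [IsPurelyInseparable k k']
        (x' : ↥(Curv2.bc k X k')), Curv2.bcFst k X k' x' = x →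
          IsDomain ↥((Curv2.bc k X k').presheaf.stalk x') ∧ IsIntegrallyClosed ↥((Curv2.bc k X k').presheaf.stalk x'))) ∧
    ((∀ (k' : Type u) [Field k'] [Algebra k k'] [FiniteDimensional k k'] [IsPurelyInseparable k k']
        (x' : ↥(Curv2.bc k X k')), Curv2.bcFst k X k' x' = x →
          IsDomain ↥((Curv2.bc k X k').presheaf.stalk x') ∧ IsIntegrallyClosed ↥((Curv2.bc k X k').presheaf.stalk x')) ↔
      ∀ (k' : Type u) [Field k'] [Algebra k k'], EGA4.IsNormalRing (k' ⊗[k] ↥(X.presheaf.stalk x))) := by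
  obtain ⟨c, P, rfl⟩ := GeomField.exists_chart (k := k) x
  have h23 : (∀ (k' : Type u) [Field k'] [Algebra k k'] [FiniteDimensional k k'] [IsPurelyInseparable k k']
      (x' : ↥(Curv2.bc k X k')), Curv2.bcFst k X k' x' = c.emb P →
        IsDomain ↥((Curv2.bc k X k').presheaf.stalk x') ∧ IsIntegrallyClosed ↥((Curv2.bc k X k').presheaf.stalk x')) →
      ∀ (k' : Type u) [Field k'] [Algebra k k'], EGA4.IsNormalRing (k' ⊗[k] ↥(X.presheaf.stalk (c.emb P))) := by
    intro h K _ _
    refine isNormalRing_tensor_of_insep k _ (fun k' _ _ hf hp => ?_) K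
    haveI := hf
    haveI := hp
    refine FlatLoc6.isNormalRing_of_ringEquiv (R := X.presheaf.stalk (c.emb P) ⊗[k] k')
      (Algebra.TensorProduct.comm k _ k').toRingEquiv (isNormalRing_of_maximal fun m _ => ?_)
    obtain ⟨z, hz, hfst⟩ := tensor_stalk_iff c P k' m
    refine hz.mp (h k' z (hfst (IsLocalRing.eq_maximalIdeal ?_)))
    exact Ideal.isMaximal_comap_of_isIntegral_of_isMaximal m
  have h31 : (∀ (k' : Type u) [Field k'] [Algebra k k'], EGA4.IsNormalRing (k' ⊗[k] ↥(X.presheaf.stalk (c.emb P)))) →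
      ∀ (k' : Type u) [Field k'] [Algebra k k'] (x' : ↥(Curv2.bc k X k')), Curv2.bcFst k X k' x' = c.emb P →
        IsDomain ↥((Curv2.bc k X k').presheaf.stalk x') ∧ IsIntegrallyClosed ↥((Curv2.bc k X k').presheaf.stalk x') := by
    intro h k' _ _ z hz
    obtain ⟨Q, rfl⟩ := c.exists_bcEmb_eq k' P z hz
    letI := c.stalkAlg P
    haveI := c.isScalarTower_stalk P
    haveI := c.isLocalization_stalk P
    let P' : Ideal c.R := PrimeSpectrum.asIdeal (R := c.R) P
    haveI : P'.IsPrime := P.isPrime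
    let O := X.presheaf.stalk (c.emb P)
    letI : Algebra (c.R ⊗[k] k') (O ⊗[k] k') :=
      (Algebra.TensorProduct.map (IsScalarTower.toAlgHom k c.R O) (AlgHom.id k k')).toAlgebra
    haveI := isLocalization_tensor (k := k) (R := c.R) (O := O) (K := k') P'
    refine (stalk_bcEmb_iff c k' Q).mpr ?_
    let M : Submonoid (c.R ⊗[k] k') :=
      P'.primeCompl.map (Algebra.TensorProduct.includeLeft (R := k) (S := k) (A := c.R) (B := k'))
    let Q₀ : Ideal (c.R ⊗[k] k') := PrimeSpectrum.asIdeal (R := c.R ⊗[k] k') Q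
    haveI hQ₀ : Q₀.IsPrime := Q.isPrime
    have hd : Disjoint (M : Set (c.R ⊗[k] k')) (Q₀ : Set (c.R ⊗[k] k')) := by
      rw [Set.disjoint_left]
      rintro _ ⟨r, hr, rfl⟩ hmem
      apply hr
      have := (GeomField.Chart.bcEmb_fst_eq_iff c k' P Q).mp hz
      show r ∈ P'
      rw [show P' = _ from this.symm, Ideal.mem_comap]
      exact hmem
    have hT : EGA4.IsNormalRing (O ⊗[k] k') :=
      FlatLoc6.isNormalRing_of_ringEquiv (R := k' ⊗[k] O) (Algebra.TensorProduct.comm k k' O).toRingEquiv (h k')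
    let Q' := Q₀.map (algebraMap (c.R ⊗[k] k') (O ⊗[k] k'))
    haveI : Q'.IsPrime := IsLocalization.isPrime_of_isPrime_disjoint M _ Q₀ hQ₀ hd
    have hQ : Q'.comap (algebraMap (c.R ⊗[k] k') (O ⊗[k] k')) = Q₀ :=
      IsLocalization.comap_map_of_isPrime_disjoint M _ hQ₀ hd
    haveI : IsLocalization.AtPrime (Localization.AtPrime Q') Q₀ := by
      have h2 : IsLocalization (Q'.comap (algebraMap (c.R ⊗[k] k') (O ⊗[k] k'))).primeCompl
          (Localization.AtPrime Q') :=
        IsLocalization.isLocalization_isLocalization_atPrime_isLocalization M (Localization.AtPrime Q') Q'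
      have hM : (Q'.comap (algebraMap (c.R ⊗[k] k') (O ⊗[k] k'))).primeCompl = Q₀.primeCompl :=
        Submonoid.ext fun z => by
          show z ∉ Q'.comap (algebraMap (c.R ⊗[k] k') (O ⊗[k] k')) ↔ z ∉ Q₀
          rw [hQ]
      rwa [hM] at h2
    let e : Localization.AtPrime Q' ≃+* Localization.AtPrime Q₀ :=
      (IsLocalization.algEquiv Q₀.primeCompl (Localization.AtPrime Q') (Localization.AtPrime Q₀)).toRingEquiv
    haveI := (hT Q').1
    haveI := (hT Q').2
    exact ⟨e.symm.toMulEquiv.isDomain, IsIntegrallyClosed.of_equiv e⟩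
  exact ⟨⟨fun h k' _ _ _ _ => h k', fun h => h31 (h23 h)⟩, ⟨h23, fun h k' _ _ _ _ => h31 h k'⟩⟩

end Groth.Agent.GeomNormCrit
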